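import Cfsg.Agent.SporB.Fi22.Rep.Data

set_option autoImplicit false
set_option maxRecDepth 100000

namespace Cfsg.Agent.CosetEnum.Fi22.Rep

theorem point_7 : allRange (fun i => tbl.checkPoint relsLit i) 1792 256 = true := by decide +kernel

theorem point_8 : allRange (fun i => tbl.checkPoint relsLit i) 2048 256 = true := by decide +kernel

theorem point_9 : allRange (fun i => tbl.checkPoint relsLit i) 2304 256 = true := by decide +kernel

theorem point_10 : allRange (fun i => tbl.checkPoint relsLit i) 2560 256 = true := by decide +kernel

theorem point_11 : allRange (fun i => tbl.checkPoint relsLit i) 2816 256 = true := by decide +kernel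

theorem point_12 : allRange (fun i => tbl.checkPoint relsLit i) 3072 256 = true := by decide +kernel

theorem point_13 : allRange (fun i => tbl.checkPoint relsLit i) 3328 182 = true := by decide +kernel

end Cfsg.Agent.CosetEnum.Fi22.Rep
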