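import Cfsg.Agent.SporB.Fi22.Rep.Data

set_option autoImplicit false
set_option maxRecDepth 100000

namespace Cfsg.Agent.CosetEnum.Fi22.Rep

theorem slp_ok_0 : allRange (fun i => slp.checkPoint tbl i) 0 256 = true := by decide +kernel

theorem slp_ok_1 : allRange (fun i => slp.checkPoint tbl i) 256 256 = true := by decide +kernel

theorem slp_ok_2 : allRange (fun i => slp.checkPoint tbl i) 512 256 = true := by decide +kernel

theorem slp_ok_3 : allRange (fun i => slp.checkPoint tbl i) 768 256 = true := by decide +kernel

theorem slp_ok_4 : allRange (fun i => slp.checkPoint tbl i) 1024 256 = true := by decide +kernel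

end Cfsg.Agent.CosetEnum.Fi22.Rep
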