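import Cfsg.Agent.SporB.Fi22.Rep.Data
import Cfsg.Agent.SporB.Fi22.Pres
import Cfsg.Agent.SporB.Fi22.Rep.Slp0
import Cfsg.Agent.SporB.Fi22.Rep.Slp1
import Cfsg.Agent.SporB.Fi22.Rep.Slp2
import Cfsg.Agent.SporB.Fi22.Rep.Point0
import Cfsg.Agent.SporB.Fi22.Rep.Point1

set_option autoImplicit false
set_option maxRecDepth 100000

namespace Cfsg.Agent.CosetEnum.Fi22.Rep

theorem rels_eq : Fi22.pres.relWords = relsLit := by decide +kernel

theorem point : ∀ i < 3510, tbl.checkPoint relsLit i = true := by
  intro i hi
  rcases Nat.lt_or_ge i 256 with h0 | h0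
  · exact allRange_spec point_0 i (by omega) (by omega)
  rcases Nat.lt_or_ge i 512 with h1 | h1
  · exact allRange_spec point_1 i (by omega) (by omega)
  rcases Nat.lt_or_ge i 768 with h2 | h2
  · exact allRange_spec point_2 i (by omega) (by omega)
  rcases Nat.lt_or_ge i 1024 with h3 | h3
  · exact allRange_spec point_3 i (by omega) (by omega)
  rcases Nat.lt_or_ge i 1280 with h4 | h4
  · exact allRange_spec point_4 i (by omega) (by omega)
  rcases Nat.lt_or_ge i 1536 with h5 | h5
  · exact allRange_spec point_5 i (by omega) (by omega)
  rcases Nat.lt_or_ge i 1792 with h6 | h6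
  · exact allRange_spec point_6 i (by omega) (by omega)
  rcases Nat.lt_or_ge i 2048 with h7 | h7
  · exact allRange_spec point_7 i (by omega) (by omega)
  rcases Nat.lt_or_ge i 2304 with h8 | h8
  · exact allRange_spec point_8 i (by omega) (by omega)
  rcases Nat.lt_or_ge i 2560 with h9 | h9
  · exact allRange_spec point_9 i (by omega) (by omega)
  rcases Nat.lt_or_ge i 2816 with h10 | h10
  · exact allRange_spec point_10 i (by omega) (by omega)
  rcases Nat.lt_or_ge i 3072 with h11 | h11
  · exact allRange_spec point_11 i (by omega) (by omega)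
  rcases Nat.lt_or_ge i 3328 with h12 | h12
  · exact allRange_spec point_12 i (by omega) (by omega)
  exact allRange_spec point_13 i (by omega) (by omega)

theorem orbit_0 : allRange (fun i => allRange (fun c => orb.checkPoint tbl ws c (roots.getD c 0) i) 0 3) 0 256 = true := by decide +kernel

theorem orbit_1 : allRange (fun i => allRange (fun c => orb.checkPoint tbl ws c (roots.getD c 0) i) 0 3) 256 256 = true := by decide +kernel

theorem orbit_2 : allRange (fun i => allRange (fun c => orb.checkPoint tbl ws c (roots.getD c 0) i) 0 3) 512 256 = true := by decide +kernel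

theorem orbit_3 : allRange (fun i => allRange (fun c => orb.checkPoint tbl ws c (roots.getD c 0) i) 0 3) 768 256 = true := by decide +kernel

theorem orbit_4 : allRange (fun i => allRange (fun c => orb.checkPoint tbl ws c (roots.getD c 0) i) 0 3) 1024 256 = true := by decide +kernel

theorem orbit_5 : allRange (fun i => allRange (fun c => orb.checkPoint tbl ws c (roots.getD c 0) i) 0 3) 1280 256 = true := by decide +kernel

theorem orbit_6 : allRange (fun i => allRange (fun c => orb.checkPoint tbl ws c (roots.getD c 0) i) 0 3) 1536 256 = true := by decide +kernel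

theorem orbit_7 : allRange (fun i => allRange (fun c => orb.checkPoint tbl ws c (roots.getD c 0) i) 0 3) 1792 256 = true := by decide +kernel

theorem orbit_8 : allRange (fun i => allRange (fun c => orb.checkPoint tbl ws c (roots.getD c 0) i) 0 3) 2048 256 = true := by decide +kernel

theorem orbit_9 : allRange (fun i => allRange (fun c => orb.checkPoint tbl ws c (roots.getD c 0) i) 0 3) 2304 256 = true := by decide +kernel

theorem orbit_10 : allRange (fun i => allRange (fun c => orb.checkPoint tbl ws c (roots.getD c 0) i) 0 3) 2560 256 = true := by decide +kernel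

theorem orbit_11 : allRange (fun i => allRange (fun c => orb.checkPoint tbl ws c (roots.getD c 0) i) 0 3) 2816 256 = true := by decide +kernel

theorem orbit_12 : allRange (fun i => allRange (fun c => orb.checkPoint tbl ws c (roots.getD c 0) i) 0 3) 3072 256 = true := by decide +kernel

theorem orbit_13 : allRange (fun i => allRange (fun c => orb.checkPoint tbl ws c (roots.getD c 0) i) 0 3) 3328 182 = true := by decide +kernel

theorem orbit : ∀ i < 3510, allRange (fun c => orb.checkPoint tbl ws c (roots.getD c 0) i) 0 3 = true := by
  intro i hi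
  rcases Nat.lt_or_ge i 256 with h0 | h0
  · exact allRange_spec orbit_0 i (by omega) (by omega)
  rcases Nat.lt_or_ge i 512 with h1 | h1
  · exact allRange_spec orbit_1 i (by omega) (by omega)
  rcases Nat.lt_or_ge i 768 with h2 | h2
  · exact allRange_spec orbit_2 i (by omega) (by omega)
  rcases Nat.lt_or_ge i 1024 with h3 | h3
  · exact allRange_spec orbit_3 i (by omega) (by omega)
  rcases Nat.lt_or_ge i 1280 with h4 | h4
  · exact allRange_spec orbit_4 i (by omega) (by omega)
  rcases Nat.lt_or_ge i 1536 with h5 | h5
  · exact allRange_spec orbit_5 i (by omega) (by omega)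
  rcases Nat.lt_or_ge i 1792 with h6 | h6
  · exact allRange_spec orbit_6 i (by omega) (by omega)
  rcases Nat.lt_or_ge i 2048 with h7 | h7
  · exact allRange_spec orbit_7 i (by omega) (by omega)
  rcases Nat.lt_or_ge i 2304 with h8 | h8
  · exact allRange_spec orbit_8 i (by omega) (by omega)
  rcases Nat.lt_or_ge i 2560 with h9 | h9
  · exact allRange_spec orbit_9 i (by omega) (by omega)
  rcases Nat.lt_or_ge i 2816 with h10 | h10
  · exact allRange_spec orbit_10 i (by omega) (by omega)
  rcases Nat.lt_or_ge i 3072 with h11 | h11
  · exact allRange_spec orbit_11 i (by omega) (by omega)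
  rcases Nat.lt_or_ge i 3328 with h12 | h12
  · exact allRange_spec orbit_12 i (by omega) (by omega)
  exact allRange_spec orbit_13 i (by omega) (by omega)

theorem slp_ok : ∀ i < 3510, slp.checkPoint tbl i = true := by
  intro i hi
  rcases Nat.lt_or_ge i 256 with h0 | h0
  · exact allRange_spec slp_ok_0 i (by omega) (by omega)
  rcases Nat.lt_or_ge i 512 with h1 | h1
  · exact allRange_spec slp_ok_1 i (by omega) (by omega)
  rcases Nat.lt_or_ge i 768 with h2 | h2
  · exact allRange_spec slp_ok_2 i (by omega) (by omega)
  rcases Nat.lt_or_ge i 1024 with h3 | h3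
  · exact allRange_spec slp_ok_3 i (by omega) (by omega)
  rcases Nat.lt_or_ge i 1280 with h4 | h4
  · exact allRange_spec slp_ok_4 i (by omega) (by omega)
  rcases Nat.lt_or_ge i 1536 with h5 | h5
  · exact allRange_spec slp_ok_5 i (by omega) (by omega)
  rcases Nat.lt_or_ge i 1792 with h6 | h6
  · exact allRange_spec slp_ok_6 i (by omega) (by omega)
  rcases Nat.lt_or_ge i 2048 with h7 | h7
  · exact allRange_spec slp_ok_7 i (by omega) (by omega)
  rcases Nat.lt_or_ge i 2304 with h8 | h8
  · exact allRange_spec slp_ok_8 i (by omega) (by omega)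
  rcases Nat.lt_or_ge i 2560 with h9 | h9
  · exact allRange_spec slp_ok_9 i (by omega) (by omega)
  rcases Nat.lt_or_ge i 2816 with h10 | h10
  · exact allRange_spec slp_ok_10 i (by omega) (by omega)
  rcases Nat.lt_or_ge i 3072 with h11 | h11
  · exact allRange_spec slp_ok_11 i (by omega) (by omega)
  rcases Nat.lt_or_ge i 3328 with h12 | h12
  · exact allRange_spec slp_ok_12 i (by omega) (by omega)
  exact allRange_spec slp_ok_13 i (by omega) (by omega)

theorem descend : InvPres.Rep.checkDescend tbl = true := by decide +kernel

theorem invs_ok : allRange (fun l => Nat.beq (tbl.inv l) l) 0 tbl.nl = true := by decide +kernel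

theorem levels_ok : checkLevels slp tbl [] levels = true := by decide +kernel

theorem levels_prod : (levels.map Level.size).prod = 64561751654400 := by decide +kernel

theorem ws_ok : ws.all (fun W => W.all fun l => Nat.blt l tbl.nl) = true := by decide +kernel

theorem lab_ok : allRange (fun i => Nat.blt (orb.getLab i) 3) 0 3510 = true := by decide +kernel

theorem roots_ok : allRange (fun c => Nat.blt (roots.getD c 0) 3510 && Nat.beq (orb.getLab (roots.getD c 0)) c) 0 3 = true := by decide +kernel

theorem size0 : countBelow (fun i => Nat.beq (orb.getLab i) 0) 3510 = 1 := by decide +kernel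

theorem size1 : countBelow (fun i => Nat.beq (orb.getLab i) 1) 3510 = 2816 := by decide +kernel

theorem size2 : countBelow (fun i => Nat.beq (orb.getLab i) 2) 3510 = 693 := by decide +kernel

theorem chk_ok : allRange (fun i => ys.all fun y => Nat.beq (slp.tbl.run (List.replicate 13 y.2.1) i) i && Nat.beq (slp.tbl.run (List.replicate 13 y.2.2) i) i && Nat.beq (slp.tbl.run [y.2.1, y.2.2] i) (tbl.at' i y.1)) 0 3510 = true := by decide +kernel

theorem steps_ok : checkSteps relsLit 9 (ys.map Prod.fst) steps = true := by decide +kernel

theorem ys_ok : ys.all (fun y => decide (y.1 < tbl.nl ∧ y.2.1 < tbl.nl + slp.prog.length ∧ y.2.2 < tbl.nl + slp.prog.length)) = true := by decide +kernel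

end Cfsg.Agent.CosetEnum.Fi22.Rep
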